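import Mathlib
import Cfsg.Prelude.Def_Classical
import Cfsg.Prelude.Def_ClassicalGeometry
import Cfsg.Agent.Lib.Helper87.SURoot

/-!
# Statements of the pieces of the PU3 project (helper44, S2784 + S2786)

Module bounds for `PSU_3(q)`: a product of three conjugates of a central transvection of a
Sylow `p`-subgroup has order a primitive prime divisor `r` of `p ^ (6 n) - 1`.
-/

set_option autoImplicit false

namespace Cfsg.Agent.Lib.Helper44.PU3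

open Matrix

/-- `Y` has determinant one and preserves the hermitian form `Σ x_i y_i ^ q` -/
def IsSU3 (q : ℕ) {F : Type*} [Field F] (Y : Matrix (Fin 3) (Fin 3) F) : Prop :=
  Y.det = 1 ∧ ∀ u v : Fin 3 → F,
    Cfsg.hermForm 3 F q (Y *ᵥ u) (Y *ᵥ v) = Cfsg.hermForm 3 F q u v

/-- primitive prime divisors of `p ^ (6 n) - 1` -/
def PPDStmt : Prop :=
  ∀ p n : ℕ, p.Prime → 1 ≤ n → ¬ (p = 2 ∧ n = 1) →
    ∃ r : ℕ, r.Prime ∧ r ∣ p ^ (6 * n) - 1 ∧ ∀ d : ℕ, 1 ≤ d → r ∣ p ^ d - 1 → 6 * n ≤ d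

/-- arithmetic of a primitive prime divisor -/
def ARIStmt : Prop :=
  ∀ p n r : ℕ, p.Prime → 1 ≤ n → r.Prime → r ∣ p ^ (6 * n) - 1 →
    (∀ d : ℕ, 1 ≤ d → r ∣ p ^ d - 1 → 6 * n ≤ d) →
    r ≠ p ∧ r ∣ (p ^ n) ^ 3 + 1 ∧ ¬ r ∣ p ^ n + 1 ∧ ¬ r ∣ (p ^ n) ^ 2 ∧
      ¬ r ∣ ((p ^ n) ^ 2) ^ 2 - 1

/-- an element of prime order `r` of `GL_3(F)`, `r` prime to `|F| (|F|^2 - 1)`, has no
eigenvalue in `F` -/
def EigStmt (F : Type*) [Field F] [Fintype F] : Prop :=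
  ∀ (r : ℕ) (g : Matrix (Fin 3) (Fin 3) F), r.Prime → ¬ r ∣ Fintype.card F →
    ¬ r ∣ Fintype.card F ^ 2 - 1 → g ^ r = 1 → g ≠ 1 →
    ∀ μ : F, (g - μ • (1 : Matrix (Fin 3) (Fin 3) F)).det ≠ 0

/-- a `3 × 3` matrix without eigenvalues satisfies no polynomial of degree at most two -/
def NonDerStmt (F : Type*) [Field F] : Prop :=
  ∀ g : Matrix (Fin 3) (Fin 3) F,
    (∀ μ : F, (g - μ • (1 : Matrix (Fin 3) (Fin 3) F)).det ≠ 0) →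
    ∀ a b c : F, a • (1 : Matrix (Fin 3) (Fin 3) F) + b • g + c • (g * g) = 0 →
      a = 0 ∧ b = 0 ∧ c = 0

/-- Cayley–Hamilton for `SU_3`: the characteristic polynomial is `X^3 - τ X^2 + τ^q X - 1` -/
def CHStmt (F : Type*) [Field F] [Fintype F] (q : ℕ) : Prop :=
  Fintype.card F = q ^ 2 → ∀ Y : Matrix (Fin 3) (Fin 3) F, IsSU3 q Y →
    Y * Y * Y = Y.trace • (Y * Y) - (Y.trace ^ q) • Y + 1

/-- two matrices with the same cubic relation, one of them non-derogatory -/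
def RecStmt (F : Type*) [Field F] : Prop :=
  ∀ (Y Z : Matrix (Fin 3) (Fin 3) F) (τ σ : F) (k : ℕ),
    Y * Y * Y = τ • (Y * Y) - σ • Y + 1 → Z * Z * Z = τ • (Z * Z) - σ • Z + 1 →
    (∀ a b c : F, a • (1 : Matrix (Fin 3) (Fin 3) F) + b • Z + c • (Z * Z) = 0 →
      a = 0 ∧ b = 0 ∧ c = 0) →
    Z ^ k = 1 → Y ^ k = 1

/-- the trace of a product of three unitary transvections -/
def TrfStmt (F : Type*) [Field F] (q : ℕ) : Prop :=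
  ∀ (v₁ v₂ v₃ : Fin 3 → F) (c₁ c₂ c₃ : F),
    Cfsg.hermForm 3 F q v₁ v₁ = 0 → Cfsg.hermForm 3 F q v₂ v₂ = 0 →
    Cfsg.hermForm 3 F q v₃ v₃ = 0 →
    (Cfsg.unitaryTransvection 3 q v₁ c₁ * Cfsg.unitaryTransvection 3 q v₂ c₂ *
      Cfsg.unitaryTransvection 3 q v₃ c₃).trace =
      3 + c₁ * c₂ * (Cfsg.hermForm 3 F q v₁ v₂ * Cfsg.hermForm 3 F q v₂ v₁) +
        c₁ * c₃ * (Cfsg.hermForm 3 F q v₁ v₃ * Cfsg.hermForm 3 F q v₃ v₁) +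
        c₂ * c₃ * (Cfsg.hermForm 3 F q v₂ v₃ * Cfsg.hermForm 3 F q v₃ v₂) +
        c₁ * c₂ * c₃ * (Cfsg.hermForm 3 F q v₁ v₃ * Cfsg.hermForm 3 F q v₃ v₂ *
          Cfsg.hermForm 3 F q v₂ v₁)

/-- the norm equation, `q` even -/
def PigEvenStmt (F : Type*) [Field F] [Fintype F] (q : ℕ) : Prop :=
  Fintype.card F = q ^ 2 → Even q → ∀ t : F, t ^ q ≠ t →
    ∃ x y z : F, x ^ q = x ∧ y ^ q = y ∧ z ^ q = z ∧ x ≠ 0 ∧ y ≠ 0 ∧ z ≠ 0 ∧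
      (t - (x + y + z)) ^ (q + 1) = -(x * y * z)

/-- the norm equation, `q` odd -/
def PigOddStmt (F : Type*) [Field F] [Fintype F] (q : ℕ) : Prop :=
  Fintype.card F = q ^ 2 → Odd q → ∀ t : F, t ^ q ≠ t →
    ∃ x y z : F, x ^ q = x ∧ y ^ q = y ∧ z ^ q = z ∧ x ≠ 0 ∧ y ≠ 0 ∧ z ≠ 0 ∧
      (t - (x + y + z)) ^ (q + 1) = -(x * y * z)

/-- three isotropic vectors with prescribed cyclic Gram entries -/
def GramStmt (F : Type*) [Field F] [Fintype F] (q : ℕ) : Prop :=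
  Fintype.card F = q ^ 2 → ∀ a b c : F, a ≠ 0 → b ≠ 0 →
    ∃ v₁ v₂ v₃ : Fin 3 → F, v₁ ≠ 0 ∧ v₂ ≠ 0 ∧ v₃ ≠ 0 ∧
      Cfsg.hermForm 3 F q v₁ v₁ = 0 ∧ Cfsg.hermForm 3 F q v₂ v₂ = 0 ∧
      Cfsg.hermForm 3 F q v₃ v₃ = 0 ∧
      Cfsg.hermForm 3 F q v₁ v₂ = a ∧ Cfsg.hermForm 3 F q v₂ v₃ = b ∧
      Cfsg.hermForm 3 F q v₃ v₁ = c

/-- an element of order `r` of `SU_3(q)` -/
def G0Stmt (F : Type*) [Field F] [Fintype F] (q : ℕ) : Prop :=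
  Fintype.card F = q ^ 2 → ∀ r : ℕ, r.Prime → r ∣ q ^ 3 + 1 → ¬ r ∣ q + 1 →
    ∃ g : Matrix (Fin 3) (Fin 3) F, IsSU3 q g ∧ g ^ r = 1 ∧ g ≠ 1

/-- `SU_3` is transitive on nonzero isotropic vectors -/
def TransStmt (F : Type*) [Field F] [Fintype F] (q : ℕ) : Prop :=
  Fintype.card F = q ^ 2 → ∀ v w : Fin 3 → F, v ≠ 0 → w ≠ 0 →
    Cfsg.hermForm 3 F q v v = 0 → Cfsg.hermForm 3 F q w w = 0 →
    ∃ M : Matrix (Fin 3) (Fin 3) F, IsSU3 q M ∧ M *ᵥ v = w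

/-- the trace of an element of `SU_3` without eigenvalues is not in the fixed field -/
def TrNeStmt (F : Type*) [Field F] [Fintype F] (q : ℕ) : Prop :=
  Fintype.card F = q ^ 2 → ∀ g : Matrix (Fin 3) (Fin 3) F, IsSU3 q g →
    (∀ μ : F, (g - μ • (1 : Matrix (Fin 3) (Fin 3) F)).det ≠ 0) → g.trace ^ q ≠ g.trace

/-- a product of three transvections (same parameter `c`) with prescribed trace `3 + t` -/
def TrSolStmt (F : Type*) [Field F] [Fintype F] (q : ℕ) : Prop :=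
  Fintype.card F = q ^ 2 → ∀ t c : F, t ^ q ≠ t → c ≠ 0 → c + c ^ q = 0 →
    ∃ v₁ v₂ v₃ : Fin 3 → F, v₁ ≠ 0 ∧ v₂ ≠ 0 ∧ v₃ ≠ 0 ∧
      Cfsg.hermForm 3 F q v₁ v₁ = 0 ∧ Cfsg.hermForm 3 F q v₂ v₂ = 0 ∧
      Cfsg.hermForm 3 F q v₃ v₃ = 0 ∧
      (Cfsg.unitaryTransvection 3 q v₁ c * Cfsg.unitaryTransvection 3 q v₂ c *
        Cfsg.unitaryTransvection 3 q v₃ c).trace = 3 + t

/-- a product of three transvections of order `r` -/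
def CoreAStmt (F : Type*) [Field F] [Fintype F] (q : ℕ) : Prop :=
  Fintype.card F = q ^ 2 → ∀ r : ℕ, r.Prime → r ∣ q ^ 3 + 1 → ¬ r ∣ q + 1 → ¬ r ∣ q ^ 2 →
    ¬ r ∣ (q ^ 2) ^ 2 - 1 → ∀ c : F, c ≠ 0 → c + c ^ q = 0 →
    ∃ v₁ v₂ v₃ : Fin 3 → F, v₁ ≠ 0 ∧ v₂ ≠ 0 ∧ v₃ ≠ 0 ∧
      Cfsg.hermForm 3 F q v₁ v₁ = 0 ∧ Cfsg.hermForm 3 F q v₂ v₂ = 0 ∧
      Cfsg.hermForm 3 F q v₃ v₃ = 0 ∧
      (Cfsg.unitaryTransvection 3 q v₁ c * Cfsg.unitaryTransvection 3 q v₂ c *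
        Cfsg.unitaryTransvection 3 q v₃ c) ^ r = 1 ∧
      Cfsg.unitaryTransvection 3 q v₁ c * Cfsg.unitaryTransvection 3 q v₂ c *
        Cfsg.unitaryTransvection 3 q v₃ c ≠ 1

/-- in `PSU_3(q)`: a product of three conjugates of the image of a transvection has order `r` -/
def PCoreStmt (F : Type*) [Field F] [Fintype F] (q : ℕ) : Prop :=
  ∀ (hF : Fintype.card F = q ^ 2) (r : ℕ), r.Prime → r ∣ q ^ 3 + 1 → ¬ r ∣ q + 1 →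
    ¬ r ∣ q ^ 2 → ¬ r ∣ (q ^ 2) ^ 2 - 1 →
    ∀ (v : Fin 3 → F) (c : F), v ≠ 0 → Cfsg.hermForm 3 F q v v = 0 → c ≠ 0 → c + c ^ q = 0 →
    ∃ g₁ g₂ : Cfsg.PSU 3 F q,
      orderOf ((QuotientGroup.mk (Cfsg.Agent.Lib.Helper87.tU hF v c) : Cfsg.PSU 3 F q) *
        (g₁ * (QuotientGroup.mk (Cfsg.Agent.Lib.Helper87.tU hF v c) : Cfsg.PSU 3 F q) * g₁⁻¹) *
        (g₂ * (QuotientGroup.mk (Cfsg.Agent.Lib.Helper87.tU hF v c) : Cfsg.PSU 3 F q) * g₂⁻¹)) = r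

end Cfsg.Agent.Lib.Helper44.PU3
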