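import Mathlib
import Cfsg.Prelude.Def_GeometricClasses
import Cfsg.Prelude.Def_LieClassical
import Cfsg.Agent.Lib.Helper71.Asch5
import Cfsg.Agent.Lib.Helper82.ASB8UNITS
import Cfsg.Agent.Lib.Helper44.BADDefs

/-! Project BAD (helper44): piece EMIN, the minimality of `E = 3^{1+4}`. -/

set_option autoImplicit false

namespace Cfsg.Agent.Lib.Helper44.BAD

open Matrix Cfsg.Geo Cfsg.Agent.Lib.Helper71.Asch
open scoped Kronecker
open Cfsg.Agent.Lib.Helper82.ASB8UNITS (tmat_mul tmat_one)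

variable {n : ℕ} {F : Type*} [Field F] [Fintype F] {q : ℕ}

/-- a unitary matrix has a two-sided inverse -/
theorem EMIN_uinv (g : Matrix (Fin 3) (Fin 3) F) (hg : g ∈ bU F 2) :
    ∃ g' : Matrix (Fin 3) (Fin 3) F, g * g' = 1 ∧ g' * g = 1 := by
  have h1 : gᵀ * g.map (fun x : F => x ^ 2) = 1 := hg
  have h2 : g.map (fun x : F => x ^ 2) * gᵀ = 1 := mul_eq_one_comm.mp h1
  have h3 : g * (g.map (fun x : F => x ^ 2))ᵀ = 1 := by
    have := congrArg Matrix.transpose h2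
    rwa [Matrix.transpose_mul, Matrix.transpose_transpose, Matrix.transpose_one] at this
  exact ⟨(g.map (fun x : F => x ^ 2))ᵀ, h3, mul_eq_one_comm.mp h3⟩

/-- the invertible matrix `P (a ⊗ b) P⁻¹` as an element of `GL` -/
def EMIN_mk (e : Fin n ≃ Fin 3 × Fin 3) (P : GL (Fin n) F) (a a' b b' : Matrix (Fin 3) (Fin 3) F)
    (ha : a * a' = 1) (ha' : a' * a = 1) (hb : b * b' = 1) (hb' : b' * b = 1) : GL (Fin n) F :=
  ⟨tmat e P a b, tmat e P a' b', by rw [tmat_mul, ha, hb, tmat_one],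
    by rw [tmat_mul, ha', hb', tmat_one]⟩

theorem EMIN_mk_val (e : Fin n ≃ Fin 3 × Fin 3) (P : GL (Fin n) F)
    (a a' b b' : Matrix (Fin 3) (Fin 3) F)
    (ha : a * a' = 1) (ha' : a' * a = 1) (hb : b * b' = 1) (hb' : b' * b = 1) :
    (EMIN_mk e P a a' b b' ha ha' hb hb').1 = tmat e P a b := rfl

theorem EMIN_mk_inv (e : Fin n ≃ Fin 3 × Fin 3) (P : GL (Fin n) F)
    (a a' b b' : Matrix (Fin 3) (Fin 3) F)
    (ha : a * a' = 1) (ha' : a' * a = 1) (hb : b * b' = 1) (hb' : b' * b = 1) :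
    ((EMIN_mk e P a a' b b' ha ha' hb hb')⁻¹ : GL (Fin n) F).1 = tmat e P a' b' := rfl

/-- the inverse of an element with matrix `tmat a b` -/
theorem EMIN_inv_val (e : Fin n ≃ Fin 3 × Fin 3) (P : GL (Fin n) F) (y : GL (Fin n) F)
    (a a' b b' : Matrix (Fin 3) (Fin 3) F)
    (ha : a * a' = 1) (ha' : a' * a = 1) (hb : b * b' = 1) (hb' : b' * b = 1)
    (hy : y.1 = tmat e P a b) : (y⁻¹ : GL (Fin n) F).1 = tmat e P a' b' := by
  have h : y = EMIN_mk e P a a' b b' ha ha' hb hb' := Units.ext hy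
  rw [h]
  rfl

theorem EMIN_tmat_smul (e : Fin n ≃ Fin 3 × Fin 3) (P : GL (Fin n) F) (c : F)
    (a b : Matrix (Fin 3) (Fin 3) F) : tmat e P (c • a) b = c • tmat e P a b := by
  unfold tmat
  rw [Matrix.smul_kronecker]
  simp [Matrix.reindex_apply, Matrix.submatrix_smul]

theorem EMIN_tmat_smul' (e : Fin n ≃ Fin 3 × Fin 3) (P : GL (Fin n) F) (c : F)
    (a b : Matrix (Fin 3) (Fin 3) F) : tmat e P a (c • b) = c • tmat e P a b := by
  unfold tmat
  rw [Matrix.kronecker_smul]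
  simp [Matrix.reindex_apply, Matrix.submatrix_smul]

/-- the key step: from one element with non-scalar first factor to all of `E₁ ⊗ 1` -/
theorem EMIN_key (e : Fin n ≃ Fin 3 × Fin 3) (P : GL (Fin n) F) (H' : Subgroup (GL (Fin n) F))
    (hS : SMULp F) (haux : SAUXp F) (htr : STRANSp F)
    (hH1 : ∀ g : GL (Fin n) F, ∀ a ∈ bU F 2, g.1 = tmat e P a 1 → g ∈ H')
    (L' : Subgroup (GL (Fin n) F)) (hN : Nrm H' L')
    (y : GL (Fin n) F) (hy : y ∈ L') (a b : Matrix (Fin 3) (Fin 3) F) (ha : a ∈ bS F)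
    (hb : b ∈ bS F) (hans : ¬ bScal a) (hyab : y.1 = tmat e P a b) :
    ∀ s' ∈ bS F, ∀ w : GL (Fin n) F, w.1 = tmat e P s' 1 → w ∈ L' := by
  obtain ⟨a', ha'S, haa', ha'a⟩ := hS.2.2 a ha
  obtain ⟨b', hb'S, hbb', hb'b⟩ := hS.2.2 b hb
  have hyinv : (y⁻¹ : GL (Fin n) F).1 = tmat e P a' b' :=
    EMIN_inv_val e P y a a' b b' haa' ha'a hbb' hb'b hyab
  -- conjugation by `tmat g 1`, `g` unitary
  have conj : ∀ (g : Matrix (Fin 3) (Fin 3) F), g ∈ bU F 2 → ∀ (u : GL (Fin n) F), u ∈ L' →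
      ∀ (c d c' : Matrix (Fin 3) (Fin 3) F), u.1 = tmat e P c d → g * c = c' * g →
      ∃ v ∈ L', v.1 = tmat e P c' d := by
    intro g hg u hu c d c' huc hgc
    obtain ⟨g', hgg', hg'g⟩ := EMIN_uinv g hg
    set γ : GL (Fin n) F := EMIN_mk e P g g' 1 1 hgg' hg'g (one_mul 1) (one_mul 1) with hγ
    have hγH : γ ∈ H' := hH1 γ g hg rfl
    refine ⟨γ * u * γ⁻¹, hN γ hγH u hu, ?_⟩
    rw [Units.val_mul, Units.val_mul, huc, hγ, EMIN_mk_val, EMIN_mk_inv, tmat_mul, tmat_mul]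
    congr 1
    · rw [hgc, mul_assoc, hgg', mul_one]
    · rw [one_mul, mul_one]
  -- step 1: an element with matrix `tmat a 1`
  have ha2 : a * a ∈ bS F := hS.2.1 a ha a ha
  have ha2ns : ¬ bScal (a * a) := haux.2.1 a ha hans
  obtain ⟨g, hgU, hg⟩ := htr a ha (a * a) ha2 hans ha2ns
  obtain ⟨v, hvL, hv⟩ := conj g hgU y hy a b (a * a) hyab hg
  have hz : v * y⁻¹ ∈ L' := L'.mul_mem hvL (L'.inv_mem hy)
  have hzval : (v * y⁻¹ : GL (Fin n) F).1 = tmat e P a 1 := by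
    rw [Units.val_mul, hv, hyinv, tmat_mul, mul_assoc, haa', mul_one, hbb']
  -- step 2: all non-scalar elements
  have step2 : ∀ M' ∈ bS F, ¬ bScal M' → ∀ w : GL (Fin n) F, w.1 = tmat e P M' 1 → w ∈ L' := by
    intro M' hM' hM'ns w hw
    obtain ⟨g₂, hg₂U, hg₂⟩ := htr a ha M' hM' hans hM'ns
    obtain ⟨v₂, hv₂L, hv₂⟩ := conj g₂ hg₂U _ hz a 1 M' hzval hg₂
    have : w = v₂ := Units.ext (by rw [hw, hv₂])
    rw [this]
    exact hv₂L
  -- step 3: all elements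
  intro s' hs' w hw
  obtain ⟨M, hM, M', hM', hMns, hM'ns, hsMM⟩ := haux.2.2 s' hs'
  obtain ⟨Mi, -, hMMi, hMiM⟩ := hS.2.2 M hM
  obtain ⟨Mi', -, hMMi', hMiM'⟩ := hS.2.2 M' hM'
  have h1 := step2 M hM hMns (EMIN_mk e P M Mi 1 1 hMMi hMiM (one_mul 1) (one_mul 1)) rfl
  have h2 := step2 M' hM' hM'ns (EMIN_mk e P M' Mi' 1 1 hMMi' hMiM' (one_mul 1) (one_mul 1)) rfl
  have : w = EMIN_mk e P M Mi 1 1 hMMi hMiM (one_mul 1) (one_mul 1) *
      EMIN_mk e P M' Mi' 1 1 hMMi' hMiM' (one_mul 1) (one_mul 1) := by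
    apply Units.ext
    rw [Units.val_mul, EMIN_mk_val, EMIN_mk_val, tmat_mul, hw, hsMM, one_mul]
  rw [this]
  exact L'.mul_mem h1 h2

/-- EMIN: `E` is a minimal non-scalar subgroup normalised by `H'`. -/
theorem EMIN (e : Fin n ≃ Fin 3 × Fin 3) (P : GL (Fin n) F) (E H' : Subgroup (GL (Fin n) F))
    (hE : EIs e P E) (hS : SMULp F) (haux : SAUXp F) (htr : STRANSp F)
    (hH1 : ∀ g : GL (Fin n) F, ∀ a ∈ bU F 2, g.1 = tmat e P a 1 → g ∈ H')
    (s : GL (Fin n) F) (hs : s ∈ H')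
    (hsw : ∀ a b : Matrix (Fin 3) (Fin 3) F, s.1 * tmat e P a b = tmat e P b a * s.1)
    (L' : Subgroup (GL (Fin n) F)) (hL' : L' ≤ E) (hN : Nrm H' L') :
    L' ≤ scalars (Fin n) F ∨ L' = E := by
  classical
  by_cases hsc : L' ≤ scalars (Fin n) F
  · exact Or.inl hsc
  right
  refine le_antisymm hL' ?_
  obtain ⟨x, hxL, hxns⟩ := SetLike.not_le_iff_exists.mp hsc
  obtain ⟨a, ha, b, hb, hxab⟩ := (hE x).1 (hL' hxL)
  have hsinv : s.1 * (s⁻¹ : GL (Fin n) F).1 = 1 := by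
    rw [← Units.val_mul, mul_inv_cancel, Units.val_one]
  -- all `tmat a' 1`
  have first : ∀ s' ∈ bS F, ∀ w : GL (Fin n) F, w.1 = tmat e P s' 1 → w ∈ L' := by
    by_cases hans : bScal a
    · have hbns : ¬ bScal b := by
        intro hbs
        apply hxns
        obtain ⟨α, hα⟩ := hans
        obtain ⟨β, hβ⟩ := hbs
        have hx1 : x.1 = (α * β) • (1 : Matrix (Fin n) (Fin n) F) := by
          rw [hxab, hα, hβ, EMIN_tmat_smul, EMIN_tmat_smul', tmat_one, smul_smul]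
        have hne : α * β ≠ 0 := by
          intro h0
          rw [h0, zero_smul] at hx1
          have h1 : (x⁻¹ : GL (Fin n) F).1 * x.1 = 1 := by
            rw [← Units.val_mul, inv_mul_cancel, Units.val_one]
          rw [hx1, mul_zero] at h1
          have h2 := congrFun (congrFun h1 (e.symm (0, 0))) (e.symm (0, 0))
          simp at h2
        rw [mem_scalars_iff]
        exact ⟨Units.mk0 (α * β) hne, hx1⟩
      have hyL : s * x * s⁻¹ ∈ L' := hN s hs x hxL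
      have hyval : (s * x * s⁻¹ : GL (Fin n) F).1 = tmat e P b a := by
        rw [Units.val_mul, Units.val_mul, hxab, hsw, mul_assoc, hsinv, mul_one]
      exact EMIN_key e P H' hS haux htr hH1 L' hN _ hyL b a hb ha hbns hyval
    · exact EMIN_key e P H' hS haux htr hH1 L' hN x hxL a b ha hb hans hxab
  -- all `tmat 1 b'`
  have second : ∀ s' ∈ bS F, ∀ w : GL (Fin n) F, w.1 = tmat e P 1 s' → w ∈ L' := by
    intro s' hs' w hw
    obtain ⟨si, -, hssi, hsis⟩ := hS.2.2 s' hs'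
    have h1 := first s' hs' (EMIN_mk e P s' si 1 1 hssi hsis (one_mul 1) (one_mul 1)) rfl
    have h2 := hN s hs _ h1
    have : w = s * EMIN_mk e P s' si 1 1 hssi hsis (one_mul 1) (one_mul 1) * s⁻¹ := by
      apply Units.ext
      rw [Units.val_mul, Units.val_mul, EMIN_mk_val, hsw, mul_assoc, hsinv, mul_one, hw]
    rw [this]
    exact h2
  intro g hg
  obtain ⟨a₁, ha₁, b₁, hb₁, hgab⟩ := (hE g).1 hg
  obtain ⟨ai, -, haai, haia⟩ := hS.2.2 a₁ ha₁
  obtain ⟨bi, -, hbbi, hbib⟩ := hS.2.2 b₁ hb₁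
  have h1 := first a₁ ha₁ (EMIN_mk e P a₁ ai 1 1 haai haia (one_mul 1) (one_mul 1)) rfl
  have h2 := second b₁ hb₁ (EMIN_mk e P 1 1 b₁ bi (one_mul 1) (one_mul 1) hbbi hbib) rfl
  have : g = EMIN_mk e P a₁ ai 1 1 haai haia (one_mul 1) (one_mul 1) *
      EMIN_mk e P 1 1 b₁ bi (one_mul 1) (one_mul 1) hbbi hbib := by
    apply Units.ext
    rw [Units.val_mul, EMIN_mk_val, EMIN_mk_val, tmat_mul, hgab, mul_one, one_mul]
  rw [this]
  exact L'.mul_mem h1 h2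

end Cfsg.Agent.Lib.Helper44.BAD
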