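import Mathlib
import Cfsg.Agent.Lib.Helper52.ReflChar2

/-!
The Dickson parity: for an isometry `g` of a quadratic form with non-degenerate polar form and a
reflection `r`, the ranks of `r g - 1` and `g - 1` differ by exactly one (any characteristic).
Consequence in characteristic two over a finite field: the commutator subgroup of the isometry
group consists of the isometries `g` with `rank (g - 1)` even.
-/

set_option autoImplicit false

namespace Cfsg.Agent.Lib.Helper44

open Module QuadraticMap Cfsg.Agent.Lib.Helper52

section Abstract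

variable {F V : Type*} [Field F] [AddCommGroup V] [Module F V]

/-- `g - 1` as a linear map. -/
def sid (g : V →ₗ[F] V) : V →ₗ[F] V := g - LinearMap.id

theorem sid_apply (g : V →ₗ[F] V) (x : V) : sid g x = g x - x := rfl

theorem finrank_sup_span_singleton [FiniteDimensional F V] (W : Submodule F V) {u : V}
    (hu : u ∉ W) : finrank F ↥(W ⊔ Submodule.span F {u}) = finrank F W + 1 := by
  have h0 : u ≠ 0 := fun h => hu (h ▸ W.zero_mem)
  have h1 := Submodule.finrank_sup_add_finrank_inf_eq W (Submodule.span F {u})
  have h2 : W ⊓ Submodule.span F {u} = ⊥ := by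
    rw [eq_bot_iff]
    rintro x ⟨hxW, hxu⟩
    obtain ⟨c, rfl⟩ := Submodule.mem_span_singleton.1 hxu
    by_cases hc : c = 0
    · simp [hc]
    · exfalso
      apply hu
      have := W.smul_mem c⁻¹ hxW
      rwa [smul_smul, inv_mul_cancel₀ hc, one_smul] at this
  rw [h2, finrank_bot, add_zero, finrank_span_singleton h0] at h1
  exact h1

/-- The image of `g - 1` is the orthogonal complement of the fixed space of the isometry `g`. -/
theorem range_sub_id_eq_orthogonal [FiniteDimensional F V] (Q : QuadraticForm F V)
    (hQ : (polarBilin Q).Nondegenerate) (g : V →ₗ[F] V) (hg : ∀ x, Q (g x) = Q x) :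
    LinearMap.range (sid g) =
      LinearMap.BilinForm.orthogonal (polarBilin Q) (LinearMap.ker (sid g)) := by
  have hle : LinearMap.range (sid g) ≤
      LinearMap.BilinForm.orthogonal (polarBilin Q) (LinearMap.ker (sid g)) := by
    rintro _ ⟨x, rfl⟩
    rw [LinearMap.BilinForm.mem_orthogonal_iff]
    intro y hy
    have hy' : g y = y := by
      have : (sid g) y = 0 := hy
      rw [sid_apply, sub_eq_zero] at this
      exact this
    show polarBilin Q y ((sid g) x) = 0
    rw [polarBilin_apply_apply, sid_apply, polar_sub_right]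
    nth_rewrite 1 [← hy']
    rw [polar_of_isometry Q hg, sub_self]
  apply Submodule.eq_of_le_of_finrank_eq hle
  rw [LinearMap.BilinForm.finrank_orthogonal hQ]
  have := LinearMap.finrank_range_add_finrank_ker (sid g)
  omega

/-- Multiplying an isometry by a reflection changes the rank of `g - 1` by exactly one. -/
theorem finrank_range_flip [FiniteDimensional F V] (Q : QuadraticForm F V)
    (hQ : (polarBilin Q).Nondegenerate) (g : V →ₗ[F] V) (hg : ∀ x, Q (g x) = Q x) (u : V)
    (hu : Q u ≠ 0) :
    finrank F (LinearMap.range (sid (qrefl Q u ∘ₗ g))) + 1 =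
        finrank F (LinearMap.range (sid g)) ∨
      finrank F (LinearMap.range (sid (qrefl Q u ∘ₗ g))) =
        finrank F (LinearMap.range (sid g)) + 1 := by
  set h : V →ₗ[F] V := qrefl Q u ∘ₗ g with hh
  have hhiso : ∀ x, Q (h x) = Q x := fun x => by
    rw [hh, LinearMap.comp_apply, qrefl_isometry Q hu, hg]
  -- the two images differ by multiples of `u`
  have hdiff : ∀ x, (sid h) x =
      (sid g) x - ((Q u)⁻¹ * polar Q (g x) u) • u := by
    intro x
    rw [sid_apply, sid_apply, hh, LinearMap.comp_apply,
      qrefl_apply]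
    abel
  have hle1 : LinearMap.range (sid h) ≤
      LinearMap.range (sid g) ⊔ Submodule.span F {u} := by
    rintro _ ⟨x, rfl⟩
    rw [hdiff]
    exact Submodule.sub_mem _ (Submodule.mem_sup_left ⟨x, rfl⟩)
      (Submodule.mem_sup_right (Submodule.smul_mem _ _ (Submodule.mem_span_singleton_self u)))
  have hle2 : LinearMap.range (sid g) ≤
      LinearMap.range (sid h) ⊔ Submodule.span F {u} := by
    rintro _ ⟨x, rfl⟩
    have : (sid g) x =
        (sid h) x + ((Q u)⁻¹ * polar Q (g x) u) • u := by
      rw [hdiff]; abel
    rw [this]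
    exact Submodule.add_mem _ (Submodule.mem_sup_left ⟨x, rfl⟩)
      (Submodule.mem_sup_right (Submodule.smul_mem _ _ (Submodule.mem_span_singleton_self u)))
  -- claim A
  have hA : u ∉ LinearMap.range (sid g) → u ∈ LinearMap.range (sid h) := by
    intro hnot
    rw [range_sub_id_eq_orthogonal Q hQ g hg, LinearMap.BilinForm.mem_orthogonal_iff] at hnot
    push Not at hnot
    obtain ⟨x, hx, hxu⟩ := hnot
    have hx' : g x = x := by
      have : (sid g) x = 0 := hx
      rw [sid_apply, sub_eq_zero] at this
      exact this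
    have hxu' : polar Q x u ≠ 0 := hxu
    have h1 : (sid h) x = -(((Q u)⁻¹ * polar Q x u) • u) := by
      rw [hdiff, sid_apply, hx', sub_self, zero_sub]
    have h2 : u = (-((Q u)⁻¹ * polar Q x u)⁻¹) • (sid h) x := by
      rw [h1, smul_neg, neg_smul, neg_neg, smul_smul, inv_mul_cancel₀, one_smul]
      exact mul_ne_zero (inv_ne_zero hu) hxu'
    rw [h2]
    exact Submodule.smul_mem _ _ ⟨x, rfl⟩
  -- claim B
  have hB : u ∈ LinearMap.range (sid g) → u ∉ LinearMap.range (sid h) := by
    rintro hug ⟨y, hy⟩
    have hy1 : h y = y + u := by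
      rw [sid_apply] at hy
      rw [← hy]; abel
    have hpol : polar Q y u = -Q u := by
      have h1 := hhiso y
      rw [hy1, QuadraticMap.map_add (⇑Q)] at h1
      linear_combination h1
    have hgy : g y = y := by
      have h1 : qrefl Q u (h y) = g y := by
        rw [hh, LinearMap.comp_apply, qrefl_qrefl Q hu]
      rw [← h1, hy1, map_add, qrefl_self Q hu, qrefl_apply, hpol]
      have : (Q u)⁻¹ * -Q u = -1 := by
        field_simp
      rw [this]
      simp
    rw [range_sub_id_eq_orthogonal Q hQ g hg, LinearMap.BilinForm.mem_orthogonal_iff] at hug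
    have h3 := hug y (by
      show (sid g) y = 0
      rw [sid_apply, hgy, sub_self])
    have h4 : polar Q y u = 0 := h3
    rw [hpol, neg_eq_zero] at h4
    exact hu h4
  by_cases hug : u ∈ LinearMap.range (sid g)
  · left
    have huh := hB hug
    have e : LinearMap.range (sid g) =
        LinearMap.range (sid h) ⊔ Submodule.span F {u} := by
      apply le_antisymm hle2
      apply sup_le
      · refine hle1.trans (sup_le le_rfl ?_)
        rw [Submodule.span_singleton_le_iff_mem]
        exact hug
      · rw [Submodule.span_singleton_le_iff_mem]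
        exact hug
    rw [e, finrank_sup_span_singleton _ huh]
  · right
    have huh := hA hug
    have e : LinearMap.range (sid h) =
        LinearMap.range (sid g) ⊔ Submodule.span F {u} := by
      apply le_antisymm hle1
      apply sup_le
      · refine hle2.trans (sup_le le_rfl ?_)
        rw [Submodule.span_singleton_le_iff_mem]
        exact huh
      · rw [Submodule.span_singleton_le_iff_mem]
        exact huh
    rw [e, finrank_sup_span_singleton _ hug]

end Abstract

section Mat

variable {ι : Type} [Fintype ι] [DecidableEq ι] {F : Type*} [Field F]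
variable (Q : QuadraticForm F (ι → F))

theorem rank_sub_one (M : Matrix ι ι F) :
    (M - 1).rank = finrank F (LinearMap.range (sid (Matrix.toLin' M))) := by
  have e : (M - 1).mulVecLin = sid (Matrix.toLin' M) := by
    apply LinearMap.ext
    intro x
    rw [Matrix.mulVecLin_apply, sid_apply, Matrix.toLin'_apply, Matrix.sub_mulVec,
      Matrix.one_mulVec]
  rw [Matrix.rank, e]

theorem toLin'_isometry (g : ↥(Cfsg.isometryGroup F ⇑Q)) (x : ι → F) :
    Q (Matrix.toLin' ((g : Matrix.GeneralLinearGroup ι F) : Matrix ι ι F) x) = Q x := by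
  rw [Matrix.toLin'_apply]
  exact Cfsg.Agent.Lib.Helper51.isometry_apply Q g x

/-- Multiplying by a reflection flips the parity of `rank (g - 1)`. -/
theorem even_rank_flip (hQ : (polarBilin Q).Nondegenerate) (g : ↥(Cfsg.isometryGroup F ⇑Q))
    (u : ι → F) (hu : Q u ≠ 0) :
    Even ((((Cfsg.Agent.Lib.Helper51.refl Q u hu * g : ↥(Cfsg.isometryGroup F ⇑Q)) :
        Matrix.GeneralLinearGroup ι F) : Matrix ι ι F) - 1).rank ↔
      ¬ Even (((g : Matrix.GeneralLinearGroup ι F) : Matrix ι ι F) - 1).rank := by
  have e : (((Cfsg.Agent.Lib.Helper51.refl Q u hu * g : ↥(Cfsg.isometryGroup F ⇑Q)) :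
      Matrix.GeneralLinearGroup ι F) : Matrix ι ι F) =
      Cfsg.reflectionMatrix ⇑Q u * ((g : Matrix.GeneralLinearGroup ι F) : Matrix ι ι F) := by
    rw [Cfsg.Agent.Lib.Helper51.coe_mul', Cfsg.Agent.Lib.Helper51.coe_refl]
  rw [e, rank_sub_one, rank_sub_one, Matrix.toLin'_mul, toLin'_reflectionMatrix]
  rcases finrank_range_flip Q hQ _ (toLin'_isometry Q g) u hu with h | h
  · rw [← h, Nat.even_add_one, not_not]
  · rw [h, Nat.even_add_one]

/-- In characteristic two (finite field), the commutator subgroup of the isometry group is the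
set of isometries `g` with `rank (g - 1)` even. -/
theorem mem_commutator_iff_even_rank [Fintype F] [Nonempty ι] (h2 : (2 : F) = 0)
    (hQ : (polarBilin Q).Nondegenerate) (h : Fintype.card F ≠ 2 ∨ Fintype.card ι ≠ 4)
    (g : ↥(Cfsg.isometryGroup F ⇑Q)) :
    g ∈ commutator ↥(Cfsg.isometryGroup F ⇑Q) ↔
      Even (((g : Matrix.GeneralLinearGroup ι F) : Matrix ι ι F) - 1).rank := by
  rw [commutator_eq_pair_two Q h2 hQ h]
  have key : ∀ x ∈ Subgroup.closure (pairSet Q), ∀ y : ↥(Cfsg.isometryGroup F ⇑Q),
      (Even ((((x * y : ↥(Cfsg.isometryGroup F ⇑Q)) : Matrix.GeneralLinearGroup ι F) :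
        Matrix ι ι F) - 1).rank ↔
        Even (((y : Matrix.GeneralLinearGroup ι F) : Matrix ι ι F) - 1).rank) := by
    intro x hx
    induction hx using Subgroup.closure_induction with
    | mem x hx =>
      intro y
      obtain ⟨u, v, hu, hv, rfl⟩ := eq_refl_mul_refl_of_mem_pairSet Q hx
      rw [mul_assoc, even_rank_flip Q hQ _ u hu, even_rank_flip Q hQ _ v hv, not_not]
    | one =>
      intro y
      rw [one_mul]
    | mul a b _ _ ha hb =>
      intro y
      rw [mul_assoc, ha, hb]
    | inv a _ ha =>
      intro y
      have := ha (a⁻¹ * y)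
      rw [mul_inv_cancel_left] at this
      exact this.symm
  constructor
  · intro hg
    have := key g hg 1
    rw [mul_one] at this
    rw [this]
    have e : (((1 : ↥(Cfsg.isometryGroup F ⇑Q)) : Matrix.GeneralLinearGroup ι F) :
        Matrix ι ι F) - 1 = 0 := by
      simp
    rw [e, Matrix.rank_zero]
    exact Even.zero
  · intro hev
    rcases mem_or_forall_refl Q (closure_reflSet_eq_top_of_finite Q hQ h) g with hg | hg
    · exact hg
    · exfalso
      obtain ⟨v, hv⟩ := exists_Q_ne_zero Q hQ
      have h1 := hg _ (refl_mem_reflSet Q v hv)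
      have h3 := key _ h1 1
      rw [mul_one, even_rank_flip Q hQ g v hv] at h3
      have e : (((1 : ↥(Cfsg.isometryGroup F ⇑Q)) : Matrix.GeneralLinearGroup ι F) :
          Matrix ι ι F) - 1 = 0 := by
        simp
      rw [e, Matrix.rank_zero] at h3
      exact h3.mpr Even.zero hev

end Mat

end Cfsg.Agent.Lib.Helper44
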