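import Mathlib
import Cfsg.Agent.Lib.Helper65.MonoMain
import Cfsg.Agent.Lib.Helper61.BlkMain

set_option autoImplicit false

/-! Low-dimensional versions (helper44) of the landed class-maximality libraries for `SL_n(q)`:
the hypothesis `13 ≤ n` of S5634 is not needed by the pieces.

* `geolow_mono_isMaximalIn`: decomposition into lines, `q ≥ 5`, `n ≥ 7`;
* `geolow_blk_isMaximalIn`: decomposition into `t` blocks of dimension `m ≥ 2`
  (`m = 2` needs `t ≥ 3` and `q ≥ 3`).
-/

namespace Cfsg.Agent.Lib.Helper44.GeoLow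

open Matrix Cfsg.Agent.Lib.Helper65.Mono

/-- TRANSPORT with the weaker hypothesis `2 ≤ n` (verbatim the proof of helper87's `s5634_m1`). -/
theorem geolow_mono_transport {F : Type*} [Field F] [Fintype F] (n : ℕ) (hn : 2 ≤ n) {t : ℕ}
    (D : Fin t → Submodule F (Fin n → F)) (hD : Cfsg.Geo.IsMDecomposition 1 D)
    (hmain : MonoMaxP (Fin n) F) :
    Cfsg.Geo.IsMaximalIn (Cfsg.Geo.specialLinear (Fin n) F)
      (Cfsg.Geo.decompositionStabilizer D ⊓ Cfsg.Geo.specialLinear (Fin n) F) := by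
  obtain ⟨b0, _⟩ := s5634_m1_basis n D hD
  have htn : t = n := by
    have h1 := Module.finrank_eq_card_basis b0
    rw [Module.finrank_fin_fun, Fintype.card_fin] at h1
    exact h1.symm
  subst htn
  obtain ⟨P, hP⟩ := s5634_m1_conj t D hD
  have hSL : ∀ g : GL (Fin t) F, P⁻¹ * g * P ∈ Cfsg.Geo.specialLinear (Fin t) F ↔
      g ∈ Cfsg.Geo.specialLinear (Fin t) F := by
    intro g
    unfold Cfsg.Geo.specialLinear
    rw [MonoidHom.mem_ker, MonoidHom.mem_ker, map_mul, map_mul, map_inv, mul_comm, ← mul_assoc,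
      mul_inv_cancel, one_mul]
  have hSL' : ∀ x : GL (Fin t) F, P * x * P⁻¹ ∈ Cfsg.Geo.specialLinear (Fin t) F ↔
      x ∈ Cfsg.Geo.specialLinear (Fin t) F := by
    intro x
    unfold Cfsg.Geo.specialLinear
    rw [MonoidHom.mem_ker, MonoidHom.mem_ker, map_mul, map_mul, map_inv, mul_comm, ← mul_assoc,
      inv_mul_cancel, one_mul]
  have hcancel : ∀ x : GL (Fin t) F, P⁻¹ * (P * x * P⁻¹) * P = x := by
    intro x
    group
  have hcancel' : ∀ g : GL (Fin t) F, P * (P⁻¹ * g * P) * P⁻¹ = g := by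
    intro g
    group
  constructor
  · -- properness
    refine lt_of_le_of_ne inf_le_right ?_
    intro heq
    have h01 : (⟨0, by omega⟩ : Fin t) ≠ ⟨1, by omega⟩ := by
      intro h
      have := congrArg Fin.val h
      simp at this
    obtain ⟨T, hT⟩ : ∃ T : GL (Fin t) F, (T : Matrix (Fin t) (Fin t) F) =
        Matrix.transvection (⟨0, by omega⟩ : Fin t) ⟨1, by omega⟩ (1 : F) := by
      refine ⟨⟨Matrix.transvection (⟨0, by omega⟩ : Fin t) ⟨1, by omega⟩ (1 : F),
        Matrix.transvection (⟨0, by omega⟩ : Fin t) ⟨1, by omega⟩ (-1 : F), ?_, ?_⟩, rfl⟩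
      · rw [Matrix.transvection_mul_transvection_same _ _ h01, add_neg_cancel,
          Matrix.transvection_zero]
      · rw [Matrix.transvection_mul_transvection_same _ _ h01, neg_add_cancel,
          Matrix.transvection_zero]
    have hTSL : T ∈ Cfsg.Geo.specialLinear (Fin t) F := by
      rw [Cfsg.Agent.Lib.Helper97.mem_specialLinear_iff, hT, Matrix.det_transvection_of_ne _ _ h01]
    have hmem : P * T * P⁻¹ ∈ Cfsg.Geo.specialLinear (Fin t) F := (hSL' T).mpr hTSL
    rw [← heq] at hmem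
    have hst := (Subgroup.mem_inf.mp hmem).1
    rw [hP, hcancel, hT] at hst
    obtain ⟨i, hi⟩ := hst ⟨1, by omega⟩
    have ha : (⟨0, by omega⟩ : Fin t) = i := by
      apply hi
      have hv : Matrix.transvection (⟨0, by omega⟩ : Fin t) ⟨1, by omega⟩ (1 : F)
          ⟨0, by omega⟩ ⟨1, by omega⟩ = 1 := by
        simp [Matrix.transvection, Matrix.one_apply_ne h01]
      rw [hv]
      exact one_ne_zero
    have hb : (⟨1, by omega⟩ : Fin t) = i := by
      apply hi
      have hv : Matrix.transvection (⟨0, by omega⟩ : Fin t) ⟨1, by omega⟩ (1 : F)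
          ⟨1, by omega⟩ ⟨1, by omega⟩ = 1 := by
        simp [Matrix.transvection, h01]
      rw [hv]
      exact one_ne_zero
    exact h01 (ha.trans hb.symm)
  · intro M hM1 hM2
    -- the conjugate subgroup
    have hXmem : ∀ x : GL (Fin t) F,
        x ∈ M.comap (MulAut.conj P).toMonoidHom ↔ P * x * P⁻¹ ∈ M := by
      intro x
      rfl
    have hXmono : MonIn (M.comap (MulAut.conj P).toMonoidHom) := by
      intro x hdet hmono
      rw [hXmem]
      apply hM1
      refine Subgroup.mem_inf.mpr ⟨?_, ?_⟩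
      · rw [hP, hcancel]
        exact hmono
      · rw [hSL', Cfsg.Agent.Lib.Helper97.mem_specialLinear_iff]
        exact hdet
    have hXSL : M.comap (MulAut.conj P).toMonoidHom ≤ Cfsg.Geo.specialLinear (Fin t) F := by
      intro x hx
      rw [hXmem] at hx
      exact (hSL' x).mp (hM2 hx)
    by_cases hex : ∃ x ∈ M.comap (MulAut.conj P).toMonoidHom,
        ¬ IsMono (x : Matrix (Fin t) (Fin t) F)
    · right
      have hle := hmain _ hXmono hXSL hex
      apply le_antisymm hM2
      intro g hg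
      have h1 : P⁻¹ * g * P ∈ M.comap (MulAut.conj P).toMonoidHom := hle ((hSL g).mpr hg)
      rw [hXmem, hcancel'] at h1
      exact h1
    · left
      push Not at hex
      apply le_antisymm _ hM1
      intro g hg
      refine Subgroup.mem_inf.mpr ⟨?_, hM2 hg⟩
      rw [hP]
      apply hex
      rw [hXmem, hcancel']
      exact hg


/-- the stabiliser of a decomposition into lines is maximal in `SL_n(q)`, `q ≥ 5`, `n ≥ 7`. -/
theorem geolow_mono_isMaximalIn {F : Type*} [Field F] [Fintype F] (n : ℕ) (hn : 7 ≤ n) {t : ℕ}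
    (D : Fin t → Submodule F (Fin n → F)) (hD : Cfsg.Geo.IsMDecomposition 1 D)
    (hq : 5 ≤ Fintype.card F) :
    Cfsg.Geo.IsMaximalIn (Cfsg.Geo.specialLinear (Fin n) F)
      (Cfsg.Geo.decompositionStabilizer D ⊓ Cfsg.Geo.specialLinear (Fin n) F) :=
  geolow_mono_transport n (by omega) D hD (mono_max hq (by rw [Fintype.card_fin]; omega))

/-- the stabiliser of a decomposition into `t` blocks of dimension `m ≥ 2` is maximal in
`SL_n(q)` (for `m = 2`: `t ≥ 3` and `q ≥ 3`). -/
theorem geolow_blk_isMaximalIn {F : Type*} [Field F] [Fintype F] (n : ℕ) {t : ℕ} (m : ℕ)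
    (hm : 2 ≤ m) (D : Fin t → Submodule F (Fin n → F)) (hD : Cfsg.Geo.IsMDecomposition m D)
    (h2 : m = 2 → 3 ≤ t ∧ 3 ≤ Fintype.card F) :
    Cfsg.Geo.IsMaximalIn (Cfsg.Geo.specialLinear (Fin n) F)
      (Cfsg.Geo.decompositionStabilizer D ⊓ Cfsg.Geo.specialLinear (Fin n) F) := by
  obtain ⟨β, P, hfib, hP⟩ := Cfsg.Agent.Lib.Helper61.Blk.stepT1 m D hD
  exact Cfsg.Agent.Lib.Helper61.Blk.stepT2 β P D hP
    (Cfsg.Agent.Lib.Helper61.Blk.model_max β m hm hfib hD.two_le h2)

end Cfsg.Agent.Lib.Helper44.GeoLow
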