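import Mathlib
import Cfsg.Agent.Lib.Helper50.SubfMax
import Cfsg.Agent.Lib.Helper44.SubfDk

/-!
# Subfield subgroups of `SL_n(F)` are maximal for every `n ≥ 6`

`Helper50.subfield_max_aux` / `subfield_isMaximalIn` (helper50, `7 ≤ n`) with two changes: in characteristic 2
the auxiliary vector of `le_H1_two` is taken on two coordinates (helper50's remark), and in odd characteristic
the dihedral step is replaced by the Dickson route `le_H1_odd_dk`. Everything else is helper50's proof,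
repeated verbatim.
-/

set_option autoImplicit false

namespace Cfsg.Agent.Lib.Helper44.SubfDk

open Matrix Cfsg.Agent.Lib.Helper97 Cfsg.Agent.Lib.Helper50

/-- A non-zero vector supported on the coordinates 4, 5 whose image under `g` has vanishing coordinate 1. -/
theorem exists_x0_six {F : Type*} [Field F] {n : ℕ} (hn : 6 ≤ n) (g : Matrix (Fin n) (Fin n) F) :
    ∃ x0 : Fin n → F, x0 ≠ 0 ∧ (∀ k : Fin n, k.val < 4 → x0 k = 0) ∧
      (g *ᵥ x0) ⟨1, by omega⟩ = 0 := by
  have h45 : (⟨4, by omega⟩ : Fin n) ≠ ⟨5, by omega⟩ := by simp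
  by_cases hp : g ⟨1, by omega⟩ ⟨4, by omega⟩ = 0
  · refine ⟨Pi.single ⟨4, by omega⟩ 1, ?_, ?_, ?_⟩
    · intro h
      have h1 := congrFun h ⟨4, by omega⟩
      simp at h1
    · intro k hk
      have h4 : k ≠ ⟨4, by omega⟩ := by intro h; rw [h] at hk; simp at hk
      simp [h4]
    · rw [Matrix.mulVec_single_one]
      exact hp
  · refine ⟨g ⟨1, by omega⟩ ⟨5, by omega⟩ • Pi.single ⟨4, by omega⟩ 1
      - g ⟨1, by omega⟩ ⟨4, by omega⟩ • Pi.single ⟨5, by omega⟩ 1, ?_, ?_, ?_⟩
    · intro h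
      have h1 := congrFun h ⟨5, by omega⟩
      simp [Pi.single_apply] at h1
      exact hp h1
    · intro k hk
      have h4 : k ≠ ⟨4, by omega⟩ := by intro h; rw [h] at hk; simp at hk
      have h5 : k ≠ ⟨5, by omega⟩ := by intro h; rw [h] at hk; simp at hk
      simp [h4, h5]
    · rw [Matrix.mulVec_sub, Matrix.mulVec_smul, Matrix.mulVec_smul, Matrix.mulVec_single_one,
        Matrix.mulVec_single_one]
      simp only [Pi.sub_apply, Pi.smul_apply, Matrix.col_apply, smul_eq_mul]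
      ring

/-- The characteristic two instance of the dihedral argument, `n ≥ 6`. -/
theorem le_H1_two_six {F : Type*} [Field F] [Fintype F] {n : ℕ} (hn : 6 ≤ n) {F₀ : Subfield F}
    {M : Subgroup (GL (Fin n) F)}
    (hHM : H1 (Fin n) F₀ ⊓ Cfsg.Geo.specialLinear (Fin n) F ≤ M)
    (hGPl : ∀ m ∈ M, ¬ GP F₀ m → m ∈ H1 (Fin n) F₀)
    (hsq : ∀ c : F, c ^ 2 ∈ F₀ → c ∈ F₀) (h2 : (2 : F) = 0) : M ≤ H1 (Fin n) F₀ := by
  set i0 : Fin n := ⟨0, by omega⟩ with hi0
  set i1 : Fin n := ⟨1, by omega⟩ with hi1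
  set i2 : Fin n := ⟨2, by omega⟩ with hi2
  set i3 : Fin n := ⟨3, by omega⟩ with hi3
  have n01 : i0 ≠ i1 := by rw [hi0, hi1]; simp
  have n02 : i0 ≠ i2 := by rw [hi0, hi2]; simp
  have n03 : i0 ≠ i3 := by rw [hi0, hi3]; simp
  have n12 : i1 ≠ i2 := by rw [hi1, hi2]; simp
  have n13 : i1 ≠ i3 := by rw [hi1, hi3]; simp
  have n23 : i2 ≠ i3 := by rw [hi2, hi3]; simp
  have h01 : (Pi.single i1 (1 : F) : Fin n → F) ⬝ᵥ Pi.single i0 1 = 0 :=
    single_dot_single_ne n01 1 1
  have h23 : (Pi.single i3 (1 : F) : Fin n → F) ⬝ᵥ Pi.single i2 1 = 0 :=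
    single_dot_single_ne n23 1 1
  set s0 : Fin n → F := Pi.single i0 1 with hs0
  set s2 : Fin n → F := Pi.single i2 1 with hs2
  have s0_0 : s0 i0 = 1 := by rw [hs0, Pi.single_eq_same]
  have s0_1 : s0 i1 = 0 := by rw [hs0, Pi.single_eq_of_ne (Ne.symm n01)]
  have s0_2 : s0 i2 = 0 := by rw [hs0, Pi.single_eq_of_ne (Ne.symm n02)]
  have s0_3 : s0 i3 = 0 := by rw [hs0, Pi.single_eq_of_ne (Ne.symm n03)]
  have s2_0 : s2 i0 = 0 := by rw [hs2, Pi.single_eq_of_ne n02]
  have s2_1 : s2 i1 = 0 := by rw [hs2, Pi.single_eq_of_ne n12]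
  have s2_2 : s2 i2 = 1 := by rw [hs2, Pi.single_eq_same]
  have s2_3 : s2 i3 = 0 := by rw [hs2, Pi.single_eq_of_ne (Ne.symm n23)]
  set b0 : GL (Fin n) F := tvG s0 (Pi.single i1 1) h01 with hb0
  set c0 : GL (Fin n) F := tvG s2 (Pi.single i3 1) h23 with hc0
  set a : GL (Fin n) F := b0 * c0 with ha
  have hbmv : ∀ y : Fin n → F, (b0 : Matrix (Fin n) (Fin n) F) *ᵥ y = y + y i1 • s0 := by
    intro y
    rw [hb0, tvG_val, tv_mulVec, single_dotProduct, one_mul]
  have hcmv : ∀ y : Fin n → F, (c0 : Matrix (Fin n) (Fin n) F) *ᵥ y = y + y i3 • s2 := by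
    intro y
    rw [hc0, tvG_val, tv_mulVec, single_dotProduct, one_mul]
  have hamv : ∀ y : Fin n → F, (a : Matrix (Fin n) (Fin n) F) *ᵥ y =
      y + y i3 • s2 + y i1 • s0 := by
    intro y
    rw [ha, Units.val_mul, ← Matrix.mulVec_mulVec, hcmv, hbmv, Pi.add_apply, Pi.smul_apply,
      s2_1, smul_zero, add_zero]
  have hb0M : b0 ∈ M := (rat_TM hHM (ratV_single F₀ i0 F₀.one_mem)
    (ratV_single F₀ i1 F₀.one_mem) h01).mem
  have hc0M : c0 ∈ M := (rat_TM hHM (ratV_single F₀ i2 F₀.one_mem)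
    (ratV_single F₀ i3 F₀.one_mem) h23).mem
  have haM : a ∈ M := M.mul_mem hb0M hc0M
  have hsmul2 : ∀ (x : F) (v : Fin n → F), x • v + x • v = 0 := by
    intro x v
    rw [← two_smul F (x • v), h2, zero_smul]
  have hb2 : b0 * b0 = 1 := by
    apply Units.ext
    apply ext_mulVec_single
    intro k
    rw [Units.val_mul, ← Matrix.mulVec_mulVec, hbmv, hbmv, Units.val_one, Matrix.one_mulVec,
      Pi.add_apply, Pi.smul_apply, s0_1, smul_zero, add_zero, add_assoc, hsmul2, add_zero]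
  have ha2 : a * a = 1 := by
    apply Units.ext
    apply ext_mulVec_single
    intro k
    rw [Units.val_mul, ← Matrix.mulVec_mulVec, hamv, hamv, Units.val_one, Matrix.one_mulVec]
    simp only [Pi.add_apply, Pi.smul_apply, s0_1, s0_3, s2_1, s2_3, smul_zero, add_zero]
    have h5 := hsmul2 ((Pi.single k 1 : Fin n → F) i3) s2
    have h6 := hsmul2 ((Pi.single k 1 : Fin n → F) i1) s0
    calc (Pi.single k 1 : Fin n → F) + (Pi.single k 1 : Fin n → F) i3 • s2
          + (Pi.single k 1 : Fin n → F) i1 • s0 + (Pi.single k 1 : Fin n → F) i3 • s2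
          + (Pi.single k 1 : Fin n → F) i1 • s0
        = (Pi.single k 1 : Fin n → F) + ((Pi.single k 1 : Fin n → F) i3 • s2
          + (Pi.single k 1 : Fin n → F) i3 • s2) + ((Pi.single k 1 : Fin n → F) i1 • s0
          + (Pi.single k 1 : Fin n → F) i1 • s0) := by abel
      _ = Pi.single k 1 := by rw [h5, h6, add_zero, add_zero]
  refine le_H1_of_involutions hGPl hsq a b0 haM hb0M ha2 hb2 ?_ ?_ (Pi.single i1 1)
    (ratV_single F₀ _ F₀.one_mem) (single_ne_zero_fin _) ?_ ?_ ?_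
  · intro h
    have h1 := congrFun (congrFun h i0) i1
    rw [hb0, tvG_val, tv, Matrix.add_apply, Matrix.add_apply, Matrix.vecMulVec_apply, s0_0,
      Pi.single_eq_same, Matrix.one_apply_ne n01, Matrix.zero_apply, zero_add, mul_one,
      add_zero] at h1
    exact one_ne_zero h1
  · intro z haz hGP
    have h3 : (a : Matrix (Fin n) (Fin n) F) *ᵥ s0 = s0 := by
      rw [hamv, s0_3, s0_1, zero_smul, zero_smul, add_zero, add_zero]
    have h1 : (a : Matrix (Fin n) (Fin n) F) *ᵥ ((z : Matrix (Fin n) (Fin n) F) *ᵥ s0) =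
        (z : Matrix (Fin n) (Fin n) F) *ᵥ s0 := by
      rw [Matrix.mulVec_mulVec, ← Units.val_mul, haz, Units.val_mul, ← Matrix.mulVec_mulVec, h3]
    rw [hamv] at h1
    have h4 := congrFun h1 i0
    simp only [Pi.add_apply, Pi.smul_apply, s2_0, s0_0, smul_eq_mul, mul_zero, mul_one,
      add_zero] at h4
    have h5 : ((z : Matrix (Fin n) (Fin n) F) *ᵥ s0) i1 = 0 := by
      linear_combination h4
    apply hGP s0 (Pi.single i1 1) (ratV_single F₀ _ F₀.one_mem) (ratV_single F₀ _ F₀.one_mem)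
      (single_ne_zero_fin _) (single_ne_zero_fin _)
    rw [single_dotProduct, one_mul, h5]
  · intro w hw
    rw [hbmv] at hw
    have h4 := congrFun hw i0
    simp only [Pi.add_apply, Pi.smul_apply, s0_0, smul_eq_mul, mul_one] at h4
    rw [single_dotProduct, one_mul]
    linear_combination h4
  · intro g hg
    have hmv : ∀ y : Fin n → F, (a : Matrix (Fin n) (Fin n) F) *ᵥ y =
        y + (((g⁻¹ : GL (Fin n) F) : Matrix (Fin n) (Fin n) F) *ᵥ y) i1 •
          ((g : Matrix (Fin n) (Fin n) F) *ᵥ s0) := by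
      intro y
      rw [hg, Units.val_mul, Units.val_mul, ← Matrix.mulVec_mulVec, ← Matrix.mulVec_mulVec,
        hbmv, Matrix.mulVec_add, Matrix.mulVec_smul, gl_mulVec_inv]
    have e1 := hmv (Pi.single i1 1)
    have e3 := hmv (Pi.single i3 1)
    rw [hamv] at e1 e3
    rw [Pi.single_eq_same, Pi.single_eq_of_ne (Ne.symm n13), zero_smul, add_zero, one_smul,
      add_right_inj] at e1
    rw [Pi.single_eq_same, Pi.single_eq_of_ne n13, zero_smul, add_zero, one_smul,
      add_right_inj] at e3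
    have f1 := congrFun e1 i0
    have f2 := congrFun e1 i2
    have f3 := congrFun e3 i2
    rw [Pi.smul_apply, smul_eq_mul, s0_0] at f1
    rw [Pi.smul_apply, smul_eq_mul, s0_2] at f2
    rw [Pi.smul_apply, smul_eq_mul, s2_2] at f3
    have hα : (((g⁻¹ : GL (Fin n) F) : Matrix (Fin n) (Fin n) F) *ᵥ Pi.single i1 1) i1 ≠ 0 := by
      intro h
      rw [h, zero_mul] at f1
      exact one_ne_zero f1
    have hw2 : ((g : Matrix (Fin n) (Fin n) F) *ᵥ s0) i2 = 0 := by
      rcases mul_eq_zero.mp f2.symm with h | h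
      · exact absurd h hα
      · exact h
    rw [hw2, mul_zero] at f3
    exact one_ne_zero f3
  · intro m
    obtain ⟨x0, hx0, hsupp, h1⟩ :=
      exists_x0_six hn ((m⁻¹ : GL (Fin n) F) : Matrix (Fin n) (Fin n) F)
    refine ⟨x0, hx0, ?_, ?_⟩
    · rw [hamv, hsupp i3 (by rw [hi3]; simp), hsupp i1 (by rw [hi1]; simp), zero_smul,
        zero_smul, add_zero, add_zero]
    · rw [hbmv]
      have h5 : (((m⁻¹ : GL (Fin n) F) : Matrix (Fin n) (Fin n) F) *ᵥ x0) i1 = 0 := h1
      rw [h5, zero_smul, add_zero]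


/-- The subfield group (in standard position) is maximal in `SL_n`, `n ≥ 6`. -/
theorem subfield_max_aux_six {F : Type*} [Field F] [Fintype F] (n : ℕ) (hn : 6 ≤ n)
    (F₀ : Subfield F) (r : ℕ) (hr : r.Prime)
    (hcard : Fintype.card F = Nat.card F₀ ^ r) :
    Cfsg.Geo.IsMaximalIn (Cfsg.Geo.specialLinear (Fin n) F)
      (H1 (Fin n) F₀ ⊓ Cfsg.Geo.specialLinear (Fin n) F) := by
  classical
  have h3 : ∀ i j : Fin n, ∃ k, k ≠ i ∧ k ≠ j := fin_third (by omega)
  have : Nontrivial (Fin n) := Fin.nontrivial_iff_two_le.mpr (by omega)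
  refine ⟨lt_of_le_of_ne inf_le_right ?_, fun M hHM hMK => ?_⟩
  · intro heq
    have hex : ∃ c : F, c ∉ F₀ := by
      by_contra hcon
      push Not at hcon
      have h1 : Nat.card F₀ = Fintype.card F := by
        rw [← Nat.card_eq_fintype_card]
        exact Nat.card_congr (Equiv.subtypeUnivEquiv hcon)
      have h4 : 1 < Nat.card F₀ := by rw [h1]; exact Fintype.one_lt_card
      rw [← h1] at hcard
      have h5 : Nat.card F₀ ^ 1 = Nat.card F₀ ^ r := by rw [pow_one]; exact hcard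
      have h6 := Nat.pow_right_injective h4 h5
      exact hr.one_lt.ne h6
    obtain ⟨c, hc⟩ := hex
    set i0 : Fin n := ⟨0, by omega⟩ with hi0
    set i1 : Fin n := ⟨1, by omega⟩ with hi1
    have n01 : i0 ≠ i1 := by rw [hi0, hi1]; simp
    have h01 : (Pi.single i1 c : Fin n → F) ⬝ᵥ Pi.single i0 1 = 0 :=
      single_dot_single_ne n01 c 1
    have ht : tvG (Pi.single i0 1) (Pi.single i1 c) h01 ∈
        H1 (Fin n) F₀ ⊓ Cfsg.Geo.specialLinear (Fin n) F := by
      rw [heq]; exact tvG_mem_specialLinear _ _ h01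
    obtain ⟨c', hc'0, A, hA, htA⟩ := exists_of_mem_H1 F₀ _ ht.1
    have e00 := congrFun (congrFun htA i0) i0
    have e01 := congrFun (congrFun htA i0) i1
    rw [tvG_val, tv, Matrix.add_apply, Matrix.vecMulVec_apply, Matrix.smul_apply,
      Pi.single_eq_same, Pi.single_eq_of_ne n01, mul_zero, add_zero, Matrix.one_apply_eq,
      smul_eq_mul] at e00
    rw [tvG_val, tv, Matrix.add_apply, Matrix.vecMulVec_apply, Matrix.smul_apply,
      Pi.single_eq_same, Pi.single_eq_same, one_mul, Matrix.one_apply_ne n01, zero_add,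
      smul_eq_mul] at e01
    have hc'mem : c' ∈ F₀ := by
      have h7 : c' = (A i0 i0)⁻¹ := eq_inv_of_mul_eq_one_left e00.symm
      rw [h7]; exact F₀.inv_mem (hA i0 i0)
    apply hc
    rw [e01]
    exact F₀.mul_mem hc'mem (hA i0 i1)
  · rcases inW_dichotomy hHM h3 r hr hcard with hW | hall
    · left
      have hGPl : ∀ m ∈ M, ¬ GP F₀ m → m ∈ H1 (Fin n) F₀ :=
        fun m hm h => mem_H1_of_not_GP hHM h3 hW m hm h
      have hle : M ≤ H1 (Fin n) F₀ := by
        by_cases h2 : (2 : F) = 0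
        · exact le_H1_two_six hn hHM hGPl (mem_of_sq_mem F₀ r hcard (Or.inl h2)) h2
        · rcases hr.eq_two_or_odd' with hr2 | hrodd
          · intro m hm
            by_contra hmH
            have hGP : GP F₀ m := by
              by_contra h
              exact hmH (hGPl m hm h)
            have h5 := card_le_of_GP F₀ r hcard m hGP ⟨0, by omega⟩
            rw [Fintype.card_fin] at h5
            omega
          · exact le_H1_odd_dk (by omega) hHM hGPl hW (mem_of_sq_mem F₀ r hcard (Or.inr hrodd)) h2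
      exact le_antisymm (fun m hm => ⟨hle hm, hMK hm⟩) hHM
    · right
      exact le_antisymm hMK (sl_le_of_inW hall)

/-- The subfield subgroup of `SL_n(F)` for a subfield of prime degree is maximal, `n ≥ 6`. -/
theorem subfield_isMaximalIn_six {F : Type*} [Field F] [Fintype F] (n : ℕ) (hn : 6 ≤ n)
    (F₀ : Subfield F) (r : ℕ) (hr : r.Prime)
    (hcard : Fintype.card F = Nat.card F₀ ^ r) (P : GL (Fin n) F) :
    Cfsg.Geo.IsMaximalIn (Cfsg.Geo.specialLinear (Fin n) F)
      (Cfsg.Geo.subfieldSubgroup F₀ P ⊓ Cfsg.Geo.specialLinear (Fin n) F) := by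
  have h := isMaximalIn_map (MulAut.conj P) (subfield_max_aux_six n hn F₀ r hr hcard)
  rw [Subgroup.map_inf_eq _ _ _ (MulAut.conj P).injective, sl_map_conj] at h
  exact h

end Cfsg.Agent.Lib.Helper44.SubfDk
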